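import Cfsg.Agent.H15.YB.X1.D

/-! Generated by tools/h15/yb.py. -/

set_option maxRecDepth 100000
set_option maxHeartbeats 0
set_option Elab.async false

namespace H15.YB.X1

open H16 H16.DC
open H26 (jn)

theorem rp45_1 : reachX T (Nat.pow (nat_lit 3) (nat_lit 8844)) (Ip4.map (flat Vp4)) [nat_lit 2, nat_lit 0, nat_lit 2, nat_lit 1, nat_lit 2, nat_lit 0, nat_lit 2, nat_lit 1] (maskL [(nat_lit 6)]) = mp45_1 := by decide +kernel
theorem rp45_2 : reachX T (Nat.pow (nat_lit 3) (nat_lit 8839)) (Ip4.map (flat Vp4)) [nat_lit 2, nat_lit 0, nat_lit 2, nat_lit 1, nat_lit 2, nat_lit 0, nat_lit 2, nat_lit 1] mp45_1 = mp45_2 := by decide +kernel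
theorem rp45_3 : reachX T (Nat.pow (nat_lit 3) (nat_lit 8848)) (Ip4.map (flat Vp4)) [nat_lit 2, nat_lit 2] mp45_2 = mp45_3 := by decide +kernel
theorem rp46_1 : reachX T (Nat.pow (nat_lit 3) (nat_lit 8844)) (Ip4.map (flat Vp4)) [nat_lit 2, nat_lit 0, nat_lit 2, nat_lit 1, nat_lit 2, nat_lit 0, nat_lit 2, nat_lit 1] (maskL [(nat_lit 2)]) = mp46_1 := by decide +kernel
theorem rp46_2 : reachX T (Nat.pow (nat_lit 3) (nat_lit 8848)) (Ip4.map (flat Vp4)) [nat_lit 2, nat_lit 0, nat_lit 2, nat_lit 1, nat_lit 2, nat_lit 0, nat_lit 2, nat_lit 1] mp46_1 = mp46_2 := by decide +kernel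
theorem rp46_3 : reachX T (Nat.pow (nat_lit 3) (nat_lit 8870)) (Ip4.map (flat Vp4)) [nat_lit 2, nat_lit 0] mp46_2 = mp46_3 := by decide +kernel
theorem sbp5 : ∀ w ∈ Vp5, w ∈ Wp5 ∨ ∃ d ∈ PR, d.1 = w ∧ d.2 ∈ Wp5 := by decide +kernel
theorem rp50_1 : reachX T (Nat.pow (nat_lit 3) (nat_lit 8836)) (Ip5.map (flat Vp5)) [nat_lit 2, nat_lit 0, nat_lit 2, nat_lit 1, nat_lit 2, nat_lit 0, nat_lit 2, nat_lit 1, nat_lit 2] (maskL [(nat_lit 372)]) = mp50_1 := by decide +kernel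
theorem rp50_2 : reachX T (Nat.pow (nat_lit 3) (nat_lit 8836)) (Ip5.map (flat Vp5)) [nat_lit 0, nat_lit 1, nat_lit 2] mp50_1 = mp50_2 := by decide +kernel
theorem rp51_1 : reachX T (Nat.pow (nat_lit 3) (nat_lit 8831)) (Ip5.map (flat Vp5)) [nat_lit 2, nat_lit 0, nat_lit 2, nat_lit 1, nat_lit 2, nat_lit 0, nat_lit 2, nat_lit 1, nat_lit 2] (maskL [(nat_lit 0)]) = mp51_1 := by decide +kernel
theorem rp51_2 : reachX T (Nat.pow (nat_lit 3) (nat_lit 8831)) (Ip5.map (flat Vp5)) [nat_lit 0, nat_lit 2, nat_lit 1, nat_lit 2, nat_lit 0] mp51_1 = mp51_2 := by decide +kernel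
theorem rp52_1 : reachX T (Nat.pow (nat_lit 3) (nat_lit 8849)) (Ip5.map (flat Vp5)) [nat_lit 2, nat_lit 0, nat_lit 2, nat_lit 1, nat_lit 2, nat_lit 0, nat_lit 2, nat_lit 1, nat_lit 2] (maskL [(nat_lit 2)]) = mp52_1 := by decide +kernel
theorem rp52_2 : reachX T (Nat.pow (nat_lit 3) (nat_lit 8841)) (Ip5.map (flat Vp5)) [nat_lit 0, nat_lit 2, nat_lit 1, nat_lit 0, nat_lit 2, nat_lit 2, nat_lit 2] mp52_1 = mp52_2 := by decide +kernel
theorem rp53_1 : reachX T (Nat.pow (nat_lit 3) (nat_lit 8832)) (Ip5.map (flat Vp5)) [nat_lit 2, nat_lit 0, nat_lit 2, nat_lit 1, nat_lit 2, nat_lit 0, nat_lit 2, nat_lit 1, nat_lit 2] (maskL [(nat_lit 1)]) = mp53_1 := by decide +kernel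
theorem rp53_2 : reachX T (Nat.pow (nat_lit 3) (nat_lit 8869)) (Ip5.map (flat Vp5)) [nat_lit 0, nat_lit 2, nat_lit 1, nat_lit 2, nat_lit 0, nat_lit 2, nat_lit 1, nat_lit 0] mp53_1 = mp53_2 := by decide +kernel
theorem rp54_1 : reachX T (Nat.pow (nat_lit 3) (nat_lit 8856)) (Ip5.map (flat Vp5)) [nat_lit 2, nat_lit 0, nat_lit 2, nat_lit 1, nat_lit 2, nat_lit 0, nat_lit 2, nat_lit 1, nat_lit 2] (maskL [(nat_lit 3)]) = mp54_1 := by decide +kernel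
theorem rp54_2 : reachX T (Nat.pow (nat_lit 3) (nat_lit 8830)) (Ip5.map (flat Vp5)) [nat_lit 0, nat_lit 2, nat_lit 1, nat_lit 2, nat_lit 0, nat_lit 2, nat_lit 1, nat_lit 2, nat_lit 0] mp54_1 = mp54_2 := by decide +kernel
theorem rp54_3 : reachX T (Nat.pow (nat_lit 3) (nat_lit 8859)) (Ip5.map (flat Vp5)) [nat_lit 2] mp54_2 = mp54_3 := by decide +kernel

end H15.YB.X1
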