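import Cfsg.Agent.H15.YB.X1.D

/-! Generated by tools/h15/yb.py. -/

set_option maxRecDepth 100000
set_option maxHeartbeats 0
set_option Elab.async false

namespace H15.YB.X1

open H16 H16.DC
open H26 (jn)

theorem lgc : T.n ≤ 2 ^ (nat_lit 14) := by decide +kernel
theorem ltc : allL (ltAll (nat_lit 9)) WN = true := by decide +kernel
theorem rtr_1 : reachX T (Nat.pow (nat_lit 3) (nat_lit 8838)) WN [nat_lit 0, nat_lit 1, nat_lit 2, nat_lit 3, nat_lit 4, nat_lit 7, nat_lit 5, nat_lit 8, nat_lit 3, nat_lit 6, nat_lit 2, nat_lit 4, nat_lit 1, nat_lit 7, nat_lit 3, nat_lit 0, nat_lit 2, nat_lit 5, nat_lit 4, nat_lit 7, nat_lit 1, nat_lit 3, nat_lit 5, nat_lit 8, nat_lit 0, nat_lit 6, nat_lit 2, nat_lit 7, nat_lit 4, nat_lit 1, nat_lit 3, nat_lit 8, nat_lit 4, nat_lit 5, nat_lit 7, nat_lit 2, nat_lit 0, nat_lit 3, nat_lit 6, nat_lit 4, nat_lit 7, nat_lit 8, nat_lit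 2, nat_lit 5, nat_lit 1, nat_lit 6, nat_lit 3, nat_lit 2, nat_lit 3, nat_lit 4, nat_lit 5, nat_lit 1] (maskL [(nat_lit 0)]) = (H26.full T.n) := by decide +kernel
theorem fx : fixS T [[nat_lit 1],
  [nat_lit 2],
  [nat_lit 3],
  [nat_lit 4],
  [nat_lit 5],
  [nat_lit 6],
  [nat_lit 7],
  [nat_lit 8]] [0] = true := by decide +kernel
theorem ivc : ivChk H26.Y332.R0 (nat_lit 9) = true := by decide +kernel
theorem sbp0 : ∀ w ∈ Vp0, w ∈ Wp0 ∨ ∃ d ∈ PR, d.1 = w ∧ d.2 ∈ Wp0 := by decide +kernel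
theorem rp00_1 : reachX T (Nat.pow (nat_lit 3) (nat_lit 8856)) (Ip0.map (flat Vp0)) [nat_lit 0, nat_lit 1, nat_lit 2, nat_lit 3, nat_lit 4, nat_lit 6, nat_lit 5, nat_lit 7, nat_lit 3, nat_lit 2, nat_lit 1, nat_lit 4, nat_lit 6, nat_lit 3, nat_lit 0, nat_lit 2, nat_lit 4, nat_lit 6, nat_lit 1, nat_lit 3, nat_lit 0, nat_lit 5, nat_lit 7, nat_lit 2, nat_lit 4, nat_lit 1, nat_lit 9, nat_lit 2, nat_lit 4, nat_lit 3] (maskL [(nat_lit 0)]) = mp00_1 := by decide +kernel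
theorem rp01_1 : reachX T (Nat.pow (nat_lit 3) (nat_lit 8870)) (Ip0.map (flat Vp0)) [nat_lit 0, nat_lit 1, nat_lit 2, nat_lit 3, nat_lit 4, nat_lit 5, nat_lit 7, nat_lit 6, nat_lit 3, nat_lit 2, nat_lit 1, nat_lit 4, nat_lit 0, nat_lit 3, nat_lit 1] (maskL [(nat_lit 1)]) = mp01_1 := by decide +kernel
theorem rp02_1 : reachX T (Nat.pow (nat_lit 3) (nat_lit 8821)) (Ip0.map (flat Vp0)) [nat_lit 0, nat_lit 1, nat_lit 2, nat_lit 4, nat_lit 6, nat_lit 3, nat_lit 5, nat_lit 0, nat_lit 7, nat_lit 1, nat_lit 4, nat_lit 6, nat_lit 2, nat_lit 7, nat_lit 3, nat_lit 1, nat_lit 5, nat_lit 6, nat_lit 4, nat_lit 2, nat_lit 7, nat_lit 5, nat_lit 3, nat_lit 2, nat_lit 1, nat_lit 10, nat_lit 7, nat_lit 8, nat_lit 3, nat_lit 6] (maskL [(nat_lit 2)]) = mp02_1 := by decide +kernel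
theorem sbp1 : ∀ w ∈ Vp1, w ∈ Wp1 ∨ ∃ d ∈ PR, d.1 = w ∧ d.2 ∈ Wp1 := by decide +kernel
theorem rp10_1 : reachX T (Nat.pow (nat_lit 3) (nat_lit 8858)) (Ip1.map (flat Vp1)) [nat_lit 2, nat_lit 2, nat_lit 0, nat_lit 2, nat_lit 1, nat_lit 1] (maskL [(nat_lit 0)]) = mp10_1 := by decide +kernel
theorem rp11_1 : reachX T (Nat.pow (nat_lit 3) (nat_lit 8836)) (Ip1.map (flat Vp1)) [nat_lit 2, nat_lit 0, nat_lit 2, nat_lit 1, nat_lit 2, nat_lit 0, nat_lit 2, nat_lit 1, nat_lit 2, nat_lit 0, nat_lit 2, nat_lit 1, nat_lit 2, nat_lit 0, nat_lit 2, nat_lit 1] (maskL [(nat_lit 4)]) = mp11_1 := by decide +kernel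
theorem rp12_1 : reachX T (Nat.pow (nat_lit 3) (nat_lit 8835)) (Ip1.map (flat Vp1)) [nat_lit 2, nat_lit 0, nat_lit 2, nat_lit 1, nat_lit 2, nat_lit 0, nat_lit 2, nat_lit 1, nat_lit 2, nat_lit 0, nat_lit 2, nat_lit 1, nat_lit 2, nat_lit 0, nat_lit 2, nat_lit 2, nat_lit 1] (maskL [(nat_lit 1)]) = mp12_1 := by decide +kernel
theorem rp13_1 : reachX T (Nat.pow (nat_lit 3) (nat_lit 8856)) (Ip1.map (flat Vp1)) [nat_lit 2, nat_lit 0, nat_lit 2, nat_lit 1, nat_lit 2, nat_lit 0, nat_lit 2, nat_lit 1, nat_lit 2, nat_lit 0, nat_lit 2, nat_lit 1, nat_lit 2, nat_lit 0, nat_lit 2, nat_lit 1, nat_lit 2, nat_lit 0, nat_lit 2] (maskL [(nat_lit 2)]) = mp13_1 := by decide +kernel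
theorem sbp2 : ∀ w ∈ Vp2, w ∈ Wp2 ∨ ∃ d ∈ PR, d.1 = w ∧ d.2 ∈ Wp2 := by decide +kernel
theorem rp21_1 : reachX T (Nat.pow (nat_lit 3) (nat_lit 8845)) (Ip2.map (flat Vp2)) [nat_lit 1, nat_lit 0, nat_lit 1, nat_lit 2, nat_lit 1, nat_lit 0, nat_lit 1, nat_lit 2, nat_lit 1, nat_lit 0, nat_lit 1, nat_lit 2, nat_lit 1, nat_lit 0, nat_lit 1] (maskL [(nat_lit 18)]) = mp21_1 := by decide +kernel
theorem rp22_1 : reachX T (Nat.pow (nat_lit 3) (nat_lit 8838)) (Ip2.map (flat Vp2)) [nat_lit 1, nat_lit 0, nat_lit 1, nat_lit 2, nat_lit 1, nat_lit 0, nat_lit 1, nat_lit 2, nat_lit 1, nat_lit 0, nat_lit 1, nat_lit 2, nat_lit 1, nat_lit 0, nat_lit 1, nat_lit 2, nat_lit 1] (maskL [(nat_lit 14)]) = mp22_1 := by decide +kernel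
theorem rp23_1 : reachX T (Nat.pow (nat_lit 3) (nat_lit 8848)) (Ip2.map (flat Vp2)) [nat_lit 1, nat_lit 0, nat_lit 1, nat_lit 2, nat_lit 1, nat_lit 0, nat_lit 1, nat_lit 2, nat_lit 1, nat_lit 0, nat_lit 1, nat_lit 2, nat_lit 1, nat_lit 0, nat_lit 1, nat_lit 2, nat_lit 1, nat_lit 0, nat_lit 1] (maskL [(nat_lit 1)]) = mp23_1 := by decide +kernel
theorem sbp3 : ∀ w ∈ Vp3, w ∈ Wp3 ∨ ∃ d ∈ PR, d.1 = w ∧ d.2 ∈ Wp3 := by decide +kernel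
theorem rp30_1 : reachX T (Nat.pow (nat_lit 3) (nat_lit 8834)) (Ip3.map (flat Vp3)) [nat_lit 1, nat_lit 2, nat_lit 1, nat_lit 0, nat_lit 1, nat_lit 2, nat_lit 1, nat_lit 2, nat_lit 1, nat_lit 0, nat_lit 1] (maskL [(nat_lit 27)]) = mp30_1 := by decide +kernel
theorem rp31_1 : reachX T (Nat.pow (nat_lit 3) (nat_lit 8848)) (Ip3.map (flat Vp3)) [nat_lit 1, nat_lit 2, nat_lit 1, nat_lit 0, nat_lit 1, nat_lit 2, nat_lit 1, nat_lit 2, nat_lit 1, nat_lit 0, nat_lit 1] (maskL [(nat_lit 78)]) = mp31_1 := by decide +kernel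
theorem rp32_1 : reachX T (Nat.pow (nat_lit 3) (nat_lit 8841)) (Ip3.map (flat Vp3)) [nat_lit 1, nat_lit 2, nat_lit 1, nat_lit 0, nat_lit 1, nat_lit 2, nat_lit 1, nat_lit 1, nat_lit 2, nat_lit 0, nat_lit 1, nat_lit 1] (maskL [(nat_lit 82)]) = mp32_1 := by decide +kernel
theorem rp33_1 : reachX T (Nat.pow (nat_lit 3) (nat_lit 8853)) (Ip3.map (flat Vp3)) [nat_lit 1, nat_lit 2, nat_lit 1, nat_lit 0, nat_lit 1, nat_lit 2, nat_lit 1, nat_lit 2, nat_lit 1, nat_lit 0, nat_lit 1, nat_lit 2] (maskL [(nat_lit 23)]) = mp33_1 := by decide +kernel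
theorem rp33_2 : reachX T (Nat.pow (nat_lit 3) (nat_lit 8828)) (Ip3.map (flat Vp3)) [nat_lit 1] mp33_1 = mp33_2 := by decide +kernel
theorem rp34_1 : reachX T (Nat.pow (nat_lit 3) (nat_lit 8835)) (Ip3.map (flat Vp3)) [nat_lit 1, nat_lit 2, nat_lit 1, nat_lit 2, nat_lit 1, nat_lit 0, nat_lit 1, nat_lit 2, nat_lit 1, nat_lit 2, nat_lit 0, nat_lit 1] (maskL [(nat_lit 0)]) = mp34_1 := by decide +kernel
theorem rp34_2 : reachX T (Nat.pow (nat_lit 3) (nat_lit 8832)) (Ip3.map (flat Vp3)) [nat_lit 0] mp34_1 = mp34_2 := by decide +kernel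
theorem rp35_1 : reachX T (Nat.pow (nat_lit 3) (nat_lit 8824)) (Ip3.map (flat Vp3)) [nat_lit 1, nat_lit 2, nat_lit 1, nat_lit 2, nat_lit 1, nat_lit 0, nat_lit 1, nat_lit 2, nat_lit 1, nat_lit 2, nat_lit 1] (maskL [(nat_lit 9)]) = mp35_1 := by decide +kernel
theorem rp35_2 : reachX T (Nat.pow (nat_lit 3) (nat_lit 8870)) (Ip3.map (flat Vp3)) [nat_lit 0, nat_lit 1, nat_lit 2, nat_lit 1] mp35_1 = mp35_2 := by decide +kernel
theorem rp36_1 : reachX T (Nat.pow (nat_lit 3) (nat_lit 8846)) (Ip3.map (flat Vp3)) [nat_lit 1, nat_lit 2, nat_lit 1, nat_lit 2, nat_lit 1, nat_lit 0, nat_lit 1, nat_lit 2, nat_lit 1, nat_lit 2, nat_lit 1] (maskL [(nat_lit 4)]) = mp36_1 := by decide +kernel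
theorem rp36_2 : reachX T (Nat.pow (nat_lit 3) (nat_lit 8823)) (Ip3.map (flat Vp3)) [nat_lit 0, nat_lit 1, nat_lit 2, nat_lit 1, nat_lit 0, nat_lit 1] mp36_1 = mp36_2 := by decide +kernel
theorem rp37_1 : reachX T (Nat.pow (nat_lit 3) (nat_lit 8838)) (Ip3.map (flat Vp3)) [nat_lit 1, nat_lit 2, nat_lit 1, nat_lit 2, nat_lit 1, nat_lit 0, nat_lit 1, nat_lit 2, nat_lit 1, nat_lit 2, nat_lit 1] (maskL [(nat_lit 10)]) = mp37_1 := by decide +kernel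
theorem rp37_2 : reachX T (Nat.pow (nat_lit 3) (nat_lit 8862)) (Ip3.map (flat Vp3)) [nat_lit 0, nat_lit 1, nat_lit 2, nat_lit 1, nat_lit 0, nat_lit 2, nat_lit 1] mp37_1 = mp37_2 := by decide +kernel
theorem rp38_1 : reachX T (Nat.pow (nat_lit 3) (nat_lit 8837)) (Ip3.map (flat Vp3)) [nat_lit 1, nat_lit 2, nat_lit 1, nat_lit 2, nat_lit 1, nat_lit 0, nat_lit 1, nat_lit 2, nat_lit 1, nat_lit 2, nat_lit 1] (maskL [(nat_lit 1)]) = mp38_1 := by decide +kernel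
theorem rp38_2 : reachX T (Nat.pow (nat_lit 3) (nat_lit 8821)) (Ip3.map (flat Vp3)) [nat_lit 0, nat_lit 1, nat_lit 2, nat_lit 1, nat_lit 2, nat_lit 1, nat_lit 0, nat_lit 2] mp38_1 = mp38_2 := by decide +kernel
theorem sbp4 : ∀ w ∈ Vp4, w ∈ Wp4 ∨ ∃ d ∈ PR, d.1 = w ∧ d.2 ∈ Wp4 := by decide +kernel
theorem rp40_1 : reachX T (Nat.pow (nat_lit 3) (nat_lit 8835)) (Ip4.map (flat Vp4)) [nat_lit 0, nat_lit 1, nat_lit 0, nat_lit 2, nat_lit 1, nat_lit 2, nat_lit 0, nat_lit 2] (maskL [(nat_lit 0)]) = mp40_1 := by decide +kernel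
theorem rp40_2 : reachX T (Nat.pow (nat_lit 3) (nat_lit 8857)) (Ip4.map (flat Vp4)) [nat_lit 1] mp40_1 = mp40_2 := by decide +kernel
theorem rp41_1 : reachX T (Nat.pow (nat_lit 3) (nat_lit 8843)) (Ip4.map (flat Vp4)) [nat_lit 2, nat_lit 0, nat_lit 2, nat_lit 1, nat_lit 2, nat_lit 0, nat_lit 2, nat_lit 1] (maskL [(nat_lit 101)]) = mp41_1 := by decide +kernel
theorem rp41_2 : reachX T (Nat.pow (nat_lit 3) (nat_lit 8867)) (Ip4.map (flat Vp4)) [nat_lit 2, nat_lit 0, nat_lit 2, nat_lit 2] mp41_1 = mp41_2 := by decide +kernel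
theorem rp42_1 : reachX T (Nat.pow (nat_lit 3) (nat_lit 8840)) (Ip4.map (flat Vp4)) [nat_lit 2, nat_lit 0, nat_lit 2, nat_lit 1, nat_lit 2, nat_lit 0, nat_lit 2, nat_lit 1] (maskL [(nat_lit 1)]) = mp42_1 := by decide +kernel
theorem rp42_2 : reachX T (Nat.pow (nat_lit 3) (nat_lit 8847)) (Ip4.map (flat Vp4)) [nat_lit 2, nat_lit 0, nat_lit 2, nat_lit 1, nat_lit 2, nat_lit 0, nat_lit 1] mp42_1 = mp42_2 := by decide +kernel
theorem rp43_1 : reachX T (Nat.pow (nat_lit 3) (nat_lit 8834)) (Ip4.map (flat Vp4)) [nat_lit 2, nat_lit 0, nat_lit 2, nat_lit 1, nat_lit 2, nat_lit 0, nat_lit 2, nat_lit 1] (maskL [(nat_lit 16)]) = mp43_1 := by decide +kernel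
theorem rp43_2 : reachX T (Nat.pow (nat_lit 3) (nat_lit 8835)) (Ip4.map (flat Vp4)) [nat_lit 2, nat_lit 0, nat_lit 2, nat_lit 1, nat_lit 2, nat_lit 0, nat_lit 2, nat_lit 2] mp43_1 = mp43_2 := by decide +kernel
theorem rp44_1 : reachX T (Nat.pow (nat_lit 3) (nat_lit 8858)) (Ip4.map (flat Vp4)) [nat_lit 2, nat_lit 0, nat_lit 2, nat_lit 1, nat_lit 2, nat_lit 0, nat_lit 2, nat_lit 1] (maskL [(nat_lit 9)]) = mp44_1 := by decide +kernel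
theorem rp44_2 : reachX T (Nat.pow (nat_lit 3) (nat_lit 8838)) (Ip4.map (flat Vp4)) [nat_lit 2, nat_lit 0, nat_lit 2, nat_lit 1, nat_lit 2, nat_lit 0, nat_lit 2, nat_lit 2] mp44_1 = mp44_2 := by decide +kernel

end H15.YB.X1
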