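import Cfsg.Agent.H15.YB.G0
import Cfsg.Agent.H15.YB.X1.R0

/-! Generated by tools/h15/yb.py. -/

set_option maxRecDepth 100000
set_option maxHeartbeats 0
set_option Elab.async false

namespace H15.YB.X1

open H16 H16.DC
open H26 (jn)

noncomputable def T : H26.Tab := H26.F22B.T
theorem wf : T.WF := H26.F22B.wf
noncomputable def PR : List (List ℕ × List ℕ) := []
noncomputable def WN : List (List ℕ) := [[nat_lit 0],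
  [nat_lit 1],
  [nat_lit 2],
  [nat_lit 3],
  [nat_lit 4],
  [nat_lit 5],
  [nat_lit 6],
  [nat_lit 7],
  [nat_lit 8]]
noncomputable def Wp0 : List (List ℕ) := [[nat_lit 0],
  [nat_lit 1],
  [nat_lit 2],
  [nat_lit 3],
  [nat_lit 4],
  [nat_lit 5],
  [nat_lit 7],
  [nat_lit 8]]
noncomputable def Vp0 : List (List ℕ) := [[nat_lit 0],
  [nat_lit 1],
  [nat_lit 2],
  [nat_lit 3],
  [nat_lit 4],
  [nat_lit 5],
  [nat_lit 7],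
  [nat_lit 8]]
noncomputable def Ip0 : List (List ℕ) := [[nat_lit 0],
  [nat_lit 1],
  [nat_lit 2],
  [nat_lit 3],
  [nat_lit 4],
  [nat_lit 5],
  [nat_lit 6],
  [nat_lit 7],
  [nat_lit 2, nat_lit 3],
  [nat_lit 3, nat_lit 6],
  [nat_lit 4, nat_lit 6]]
noncomputable def Wp1 : List (List ℕ) := [[nat_lit 3, nat_lit 7, nat_lit 2, nat_lit 3, nat_lit 0, nat_lit 1, nat_lit 8, nat_lit 7, nat_lit 4, nat_lit 3, nat_lit 1, nat_lit 0, nat_lit 2, nat_lit 7, nat_lit 3, nat_lit 5, nat_lit 6, nat_lit 5, nat_lit 4, nat_lit 3, nat_lit 5, nat_lit 6, nat_lit 7, nat_lit 4, nat_lit 3, nat_lit 7, nat_lit 5, nat_lit 2, nat_lit 3, nat_lit 4, nat_lit 5, nat_lit 1, nat_lit 3, nat_lit 6, nat_lit 7, nat_lit 8, nat_lit 7, nat_lit 4, nat_lit 3, nat_lit 7, nat_lit 4, nat_lit 3, nat_lit 7, nat_lit 3, nat_lit 0, nat_lit 1, nat_lit 5, nat_lit 6],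
  [nat_lit 1, nat_lit 5, nat_lit 0, nat_lit 3, nat_lit 7, nat_lit 2, nat_lit 3, nat_lit 4, nat_lit 3, nat_lit 7, nat_lit 5, nat_lit 2, nat_lit 4, nat_lit 3, nat_lit 4, nat_lit 7, nat_lit 8, nat_lit 3, nat_lit 5, nat_lit 6, nat_lit 7, nat_lit 2, nat_lit 3, nat_lit 1, nat_lit 2, nat_lit 6, nat_lit 1, nat_lit 2, nat_lit 7, nat_lit 3, nat_lit 4, nat_lit 5, nat_lit 1, nat_lit 3, nat_lit 7, nat_lit 8, nat_lit 3, nat_lit 6, nat_lit 7, nat_lit 4, nat_lit 3, nat_lit 7, nat_lit 8, nat_lit 4, nat_lit 2, nat_lit 0, nat_lit 3, nat_lit 2, nat_lit 5, nat_lit 4, nat_lit 3, nat_lit 1, nat_lit 5, nat_lit 4],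
  [nat_lit 0, nat_lit 8, nat_lit 4, nat_lit 2, nat_lit 8, nat_lit 3, nat_lit 5, nat_lit 4, nat_lit 7, nat_lit 5, nat_lit 6, nat_lit 3, nat_lit 7, nat_lit 4, nat_lit 5, nat_lit 3, nat_lit 2, nat_lit 3, nat_lit 7, nat_lit 6, nat_lit 8, nat_lit 4, nat_lit 3, nat_lit 5, nat_lit 6, nat_lit 5, nat_lit 4, nat_lit 2, nat_lit 3, nat_lit 1, nat_lit 0, nat_lit 7]]
noncomputable def Vp1 : List (List ℕ) := [[nat_lit 3, nat_lit 7, nat_lit 2, nat_lit 3, nat_lit 0, nat_lit 1, nat_lit 8, nat_lit 7, nat_lit 4, nat_lit 3, nat_lit 1, nat_lit 0, nat_lit 2, nat_lit 7, nat_lit 3, nat_lit 5, nat_lit 6, nat_lit 5, nat_lit 4, nat_lit 3, nat_lit 5, nat_lit 6, nat_lit 7, nat_lit 4, nat_lit 3, nat_lit 7, nat_lit 5, nat_lit 2, nat_lit 3, nat_lit 4, nat_lit 5, nat_lit 1, nat_lit 3, nat_lit 6, nat_lit 7, nat_lit 8, nat_lit 7, nat_lit 4, nat_lit 3, nat_lit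 7, nat_lit 4, nat_lit 3, nat_lit 7, nat_lit 3, nat_lit 0, nat_lit 1, nat_lit 5, nat_lit 6],
  [nat_lit 1, nat_lit 5, nat_lit 0, nat_lit 3, nat_lit 7, nat_lit 2, nat_lit 3, nat_lit 4, nat_lit 3, nat_lit 7, nat_lit 5, nat_lit 2, nat_lit 4, nat_lit 3, nat_lit 4, nat_lit 7, nat_lit 8, nat_lit 3, nat_lit 5, nat_lit 6, nat_lit 7, nat_lit 2, nat_lit 3, nat_lit 1, nat_lit 2, nat_lit 6, nat_lit 1, nat_lit 2, nat_lit 7, nat_lit 3, nat_lit 4, nat_lit 5, nat_lit 1, nat_lit 3, nat_lit 7, nat_lit 8, nat_lit 3, nat_lit 6, nat_lit 7, nat_lit 4, nat_lit 3, nat_lit 7, nat_lit 8, nat_lit 4, nat_lit 2, nat_lit 0, nat_lit 3, nat_lit 2, nat_lit 5, nat_lit 4, nat_lit 3, nat_lit 1, nat_lit 5, nat_lit 4],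
  [nat_lit 0, nat_lit 8, nat_lit 4, nat_lit 2, nat_lit 8, nat_lit 3, nat_lit 5, nat_lit 4, nat_lit 7, nat_lit 5, nat_lit 6, nat_lit 3, nat_lit 7, nat_lit 4, nat_lit 5, nat_lit 3, nat_lit 2, nat_lit 3, nat_lit 7, nat_lit 6, nat_lit 8, nat_lit 4, nat_lit 3, nat_lit 5, nat_lit 6, nat_lit 5, nat_lit 4, nat_lit 2, nat_lit 3, nat_lit 1, nat_lit 0, nat_lit 7]]
noncomputable def Ip1 : List (List ℕ) := [[nat_lit 0],
  [nat_lit 1],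
  [nat_lit 2]]
noncomputable def Wp2 : List (List ℕ) := [[nat_lit 8, nat_lit 5, nat_lit 2, nat_lit 1, nat_lit 2, nat_lit 4, nat_lit 3, nat_lit 4, nat_lit 7, nat_lit 8, nat_lit 3, nat_lit 5, nat_lit 6, nat_lit 7, nat_lit 2, nat_lit 3, nat_lit 1, nat_lit 5, nat_lit 4, nat_lit 7, nat_lit 3, nat_lit 2, nat_lit 1, nat_lit 3, nat_lit 4, nat_lit 5, nat_lit 3, nat_lit 4, nat_lit 5, nat_lit 0, nat_lit 7, nat_lit 3, nat_lit 2, nat_lit 8, nat_lit 0, nat_lit 7, nat_lit 3, nat_lit 4, nat_lit 1, nat_lit 0, nat_lit 3, nat_lit 5, nat_lit 4, nat_lit 7, nat_lit 0, nat_lit 1, nat_lit 2, nat_lit 3, nat_lit 8, nat_lit 7, nat_lit 4, nat_lit 3, nat_lit 1, nat_lit 2, nat_lit 3, nat_lit 5, nat_lit 1, nat_lit 0, nat_lit 4, nat_lit 2, nat_lit 3, nat_lit 1, nat_lit 6, nat_lit 4, nat_lit 5, nat_lit 8, nat_lit 4, nat_lit 1, nat_lit 0, nat_lit 6, nat_lit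 7, nat_lit 8],
  [nat_lit 0, nat_lit 6, nat_lit 7, nat_lit 3, nat_lit 2, nat_lit 3, nat_lit 5, nat_lit 4, nat_lit 7, nat_lit 3, nat_lit 6, nat_lit 5, nat_lit 7, nat_lit 4, nat_lit 5, nat_lit 3, nat_lit 8, nat_lit 2, nat_lit 0, nat_lit 1, nat_lit 2, nat_lit 4, nat_lit 5, nat_lit 6, nat_lit 3, nat_lit 2, nat_lit 1, nat_lit 2, nat_lit 4, nat_lit 1, nat_lit 2, nat_lit 5, nat_lit 7, nat_lit 3, nat_lit 8, nat_lit 7, nat_lit 0, nat_lit 3, nat_lit 5, nat_lit 6, nat_lit 5, nat_lit 4, nat_lit 3, nat_lit 2, nat_lit 4, nat_lit 5, nat_lit 0, nat_lit 1, nat_lit 6, nat_lit 2, nat_lit 3, nat_lit 2],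
  [nat_lit 7, nat_lit 6, nat_lit 8, nat_lit 6, nat_lit 7, nat_lit 3, nat_lit 2, nat_lit 3, nat_lit 5, nat_lit 4, nat_lit 7, nat_lit 3, nat_lit 6, nat_lit 5, nat_lit 7, nat_lit 4, nat_lit 5, nat_lit 3, nat_lit 8, nat_lit 2, nat_lit 1, nat_lit 5, nat_lit 4, nat_lit 7, nat_lit 3, nat_lit 2, nat_lit 1, nat_lit 3, nat_lit 4, nat_lit 5, nat_lit 7, nat_lit 3, nat_lit 5, nat_lit 6, nat_lit 5, nat_lit 4, nat_lit 2, nat_lit 3, nat_lit 7, nat_lit 3, nat_lit 4, nat_lit 3, nat_lit 2, nat_lit 5, nat_lit 6, nat_lit 3, nat_lit 7, nat_lit 0, nat_lit 5, nat_lit 4, nat_lit 7, nat_lit 8, nat_lit 0, nat_lit 3, nat_lit 7, nat_lit 8, nat_lit 2, nat_lit 4, nat_lit 3, nat_lit 4, nat_lit 7, nat_lit 8, nat_lit 3, nat_lit 5, nat_lit 6, nat_lit 7, nat_lit 2, nat_lit 3, nat_lit 6, nat_lit 7, nat_lit 3, nat_lit 8]]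
noncomputable def Vp2 : List (List ℕ) := [[nat_lit 8, nat_lit 5, nat_lit 2, nat_lit 1, nat_lit 2, nat_lit 4, nat_lit 3, nat_lit 4, nat_lit 7, nat_lit 8, nat_lit 3, nat_lit 5, nat_lit 6, nat_lit 7, nat_lit 2, nat_lit 3, nat_lit 1, nat_lit 5, nat_lit 4, nat_lit 7, nat_lit 3, nat_lit 2, nat_lit 1, nat_lit 3, nat_lit 4, nat_lit 5, nat_lit 3, nat_lit 4, nat_lit 5, nat_lit 0, nat_lit 7, nat_lit 3, nat_lit 2, nat_lit 8, nat_lit 0, nat_lit 7, nat_lit 3, nat_lit 4, nat_lit 1, nat_lit 0, nat_lit 3, nat_lit 5, nat_lit 4, nat_lit 7, nat_lit 0, nat_lit 1, nat_lit 2, nat_lit 3, nat_lit 8, nat_lit 7, nat_lit 4, nat_lit 3, nat_lit 1, nat_lit 2, nat_lit 3, nat_lit 5, nat_lit 1, nat_lit 0, nat_lit 4, nat_lit 2, nat_lit 3, nat_lit 1, nat_lit 6, nat_lit 4, nat_lit 5, nat_lit 8, nat_lit 4, nat_lit 1, nat_lit 0, nat_lit 6, nat_lit 7, nat_lit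 8],
  [nat_lit 0, nat_lit 6, nat_lit 7, nat_lit 3, nat_lit 2, nat_lit 3, nat_lit 5, nat_lit 4, nat_lit 7, nat_lit 3, nat_lit 6, nat_lit 5, nat_lit 7, nat_lit 4, nat_lit 5, nat_lit 3, nat_lit 8, nat_lit 2, nat_lit 0, nat_lit 1, nat_lit 2, nat_lit 4, nat_lit 5, nat_lit 6, nat_lit 3, nat_lit 2, nat_lit 1, nat_lit 2, nat_lit 4, nat_lit 1, nat_lit 2, nat_lit 5, nat_lit 7, nat_lit 3, nat_lit 8, nat_lit 7, nat_lit 0, nat_lit 3, nat_lit 5, nat_lit 6, nat_lit 5, nat_lit 4, nat_lit 3, nat_lit 2, nat_lit 4, nat_lit 5, nat_lit 0, nat_lit 1, nat_lit 6, nat_lit 2, nat_lit 3, nat_lit 2],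
  [nat_lit 7, nat_lit 6, nat_lit 8, nat_lit 6, nat_lit 7, nat_lit 3, nat_lit 2, nat_lit 3, nat_lit 5, nat_lit 4, nat_lit 7, nat_lit 3, nat_lit 6, nat_lit 5, nat_lit 7, nat_lit 4, nat_lit 5, nat_lit 3, nat_lit 8, nat_lit 2, nat_lit 1, nat_lit 5, nat_lit 4, nat_lit 7, nat_lit 3, nat_lit 2, nat_lit 1, nat_lit 3, nat_lit 4, nat_lit 5, nat_lit 7, nat_lit 3, nat_lit 5, nat_lit 6, nat_lit 5, nat_lit 4, nat_lit 2, nat_lit 3, nat_lit 7, nat_lit 3, nat_lit 4, nat_lit 3, nat_lit 2, nat_lit 5, nat_lit 6, nat_lit 3, nat_lit 7, nat_lit 0, nat_lit 5, nat_lit 4, nat_lit 7, nat_lit 8, nat_lit 0, nat_lit 3, nat_lit 7, nat_lit 8, nat_lit 2, nat_lit 4, nat_lit 3, nat_lit 4, nat_lit 7, nat_lit 8, nat_lit 3, nat_lit 5, nat_lit 6, nat_lit 7, nat_lit 2, nat_lit 3, nat_lit 6, nat_lit 7, nat_lit 3, nat_lit 8]]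
noncomputable def Ip2 : List (List ℕ) := [[nat_lit 0],
  [nat_lit 1],
  [nat_lit 2]]
noncomputable def Wp3 : List (List ℕ) := [[nat_lit 7, nat_lit 3, nat_lit 7, nat_lit 2, nat_lit 3, nat_lit 0, nat_lit 1, nat_lit 8, nat_lit 7, nat_lit 4, nat_lit 3, nat_lit 8, nat_lit 2, nat_lit 5, nat_lit 4, nat_lit 3, nat_lit 7, nat_lit 6, nat_lit 5, nat_lit 3, nat_lit 7, nat_lit 3, nat_lit 0, nat_lit 1, nat_lit 6, nat_lit 7, nat_lit 8, nat_lit 3, nat_lit 4, nat_lit 5, nat_lit 7, nat_lit 3, nat_lit 7, nat_lit 2, nat_lit 3, nat_lit 4, nat_lit 5, nat_lit 2, nat_lit 1, nat_lit 7, nat_lit 2, nat_lit 1, nat_lit 0, nat_lit 4, nat_lit 3, nat_lit 2, nat_lit 1, nat_lit 7, nat_lit 4, nat_lit 5, nat_lit 6, nat_lit 5, nat_lit 8, nat_lit 6, nat_lit 7, nat_lit 3, nat_lit 2, nat_lit 3, nat_lit 5, nat_lit 4, nat_lit 7, nat_lit 3, nat_lit 6, nat_lit 5,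 nat_lit 7, nat_lit 4, nat_lit 5, nat_lit 3, nat_lit 8, nat_lit 2, nat_lit 4, nat_lit 8, nat_lit 5, nat_lit 4, nat_lit 6, nat_lit 1, nat_lit 3, nat_lit 2, nat_lit 4, nat_lit 0, nat_lit 1, nat_lit 5, nat_lit 3, nat_lit 2, nat_lit 1, nat_lit 0, nat_lit 6, nat_lit 7, nat_lit 5, nat_lit 3, nat_lit 4, nat_lit 2, nat_lit 3, nat_lit 7, nat_lit 1, nat_lit 3, nat_lit 6, nat_lit 7, nat_lit 0, nat_lit 3, nat_lit 2, nat_lit 7, nat_lit 5, nat_lit 4, nat_lit 3, nat_lit 7, nat_lit 1, nat_lit 2, nat_lit 4, nat_lit 8, nat_lit 5, nat_lit 4, nat_lit 3, nat_lit 2, nat_lit 3, nat_lit 0, nat_lit 1, nat_lit 2, nat_lit 3, nat_lit 4, nat_lit 5, nat_lit 0, nat_lit 4, nat_lit 1, nat_lit 3, nat_lit 2, nat_lit 7, nat_lit 3],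
  [nat_lit 2, nat_lit 1, nat_lit 4, nat_lit 5, nat_lit 4, nat_lit 3, nat_lit 2, nat_lit 5, nat_lit 7, nat_lit 3, nat_lit 4, nat_lit 7, nat_lit 6, nat_lit 5, nat_lit 3, nat_lit 4, nat_lit 5, nat_lit 6, nat_lit 5, nat_lit 3, nat_lit 7, nat_lit 2, nat_lit 0, nat_lit 1, nat_lit 3, nat_lit 4, nat_lit 7, nat_lit 8, nat_lit 1, nat_lit 0, nat_lit 3, nat_lit 2, nat_lit 7, nat_lit 3, nat_lit 0, nat_lit 3, nat_lit 7, nat_lit 8, nat_lit 1, nat_lit 5, nat_lit 4, nat_lit 2, nat_lit 3, nat_lit 7, nat_lit 4, nat_lit 3, nat_lit 0, nat_lit 3, nat_lit 2, nat_lit 5, nat_lit 4, nat_lit 3, nat_lit 1, nat_lit 0, nat_lit 3, nat_lit 2, nat_lit 4, nat_lit 6, nat_lit 3, nat_lit 0, nat_lit 1, nat_lit 5, nat_lit 4, nat_lit 7, nat_lit 3, nat_lit 2, nat_lit 1, nat_lit 3, nat_lit 4, nat_lit 5, nat_lit 3, nat_lit 4, nat_lit 5, nat_lit 4],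
  [nat_lit 6, nat_lit 2, nat_lit 4, nat_lit 3, nat_lit 4, nat_lit 7, nat_lit 8, nat_lit 3, nat_lit 5, nat_lit 6, nat_lit 7, nat_lit 2, nat_lit 3, nat_lit 2, nat_lit 8, nat_lit 3, nat_lit 5, nat_lit 4, nat_lit 7, nat_lit 5, nat_lit 6, nat_lit 3, nat_lit 7, nat_lit 4, nat_lit 5, nat_lit 3, nat_lit 2, nat_lit 3, nat_lit 7, nat_lit 6, nat_lit 8, nat_lit 3, nat_lit 4, nat_lit 5, nat_lit 1, nat_lit 3, nat_lit 6, nat_lit 5, nat_lit 2, nat_lit 7, nat_lit 2, nat_lit 3, nat_lit 0, nat_lit 1, nat_lit 8, nat_lit 7, nat_lit 4, nat_lit 3, nat_lit 8, nat_lit 2, nat_lit 0, nat_lit 7, nat_lit 1, nat_lit 3, nat_lit 2, nat_lit 4, nat_lit 3, nat_lit 2, nat_lit 3, nat_lit 7, nat_lit 3, nat_lit 5, nat_lit 4, nat_lit 6, nat_lit 5, nat_lit 3, nat_lit 7, nat_lit 3, nat_lit 8, nat_lit 1, nat_lit 3, nat_lit 2, nat_lit 1, nat_lit 7, nat_lit 3, nat_lit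 4, nat_lit 5, nat_lit 8, nat_lit 7, nat_lit 2, nat_lit 3, nat_lit 0, nat_lit 1, nat_lit 6, nat_lit 4, nat_lit 8, nat_lit 5, nat_lit 6, nat_lit 7, nat_lit 8, nat_lit 1, nat_lit 0, nat_lit 5, nat_lit 4, nat_lit 7, nat_lit 6, nat_lit 3]]
noncomputable def Vp3 : List (List ℕ) := [[nat_lit 7, nat_lit 3, nat_lit 7, nat_lit 2, nat_lit 3, nat_lit 0, nat_lit 1, nat_lit 8, nat_lit 7, nat_lit 4, nat_lit 3, nat_lit 8, nat_lit 2, nat_lit 5, nat_lit 4, nat_lit 3, nat_lit 7, nat_lit 6, nat_lit 5, nat_lit 3, nat_lit 7, nat_lit 3, nat_lit 0, nat_lit 1, nat_lit 6, nat_lit 7, nat_lit 8, nat_lit 3, nat_lit 4, nat_lit 5, nat_lit 7, nat_lit 3, nat_lit 7, nat_lit 2, nat_lit 3, nat_lit 4, nat_lit 5, nat_lit 2, nat_lit 1, nat_lit 7, nat_lit 2, nat_lit 1, nat_lit 0, nat_lit 4, nat_lit 3, nat_lit 2, nat_lit 1, nat_lit 7, nat_lit 4, nat_lit 5, nat_lit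 6, nat_lit 5, nat_lit 8, nat_lit 6, nat_lit 7, nat_lit 3, nat_lit 2, nat_lit 3, nat_lit 5, nat_lit 4, nat_lit 7, nat_lit 3, nat_lit 6, nat_lit 5, nat_lit 7, nat_lit 4, nat_lit 5, nat_lit 3, nat_lit 8, nat_lit 2, nat_lit 4, nat_lit 8, nat_lit 5, nat_lit 4, nat_lit 6, nat_lit 1, nat_lit 3, nat_lit 2, nat_lit 4, nat_lit 0, nat_lit 1, nat_lit 5, nat_lit 3, nat_lit 2, nat_lit 1, nat_lit 0, nat_lit 6, nat_lit 7, nat_lit 5, nat_lit 3, nat_lit 4, nat_lit 2, nat_lit 3, nat_lit 7, nat_lit 1, nat_lit 3, nat_lit 6, nat_lit 7, nat_lit 0, nat_lit 3, nat_lit 2, nat_lit 7, nat_lit 5, nat_lit 4, nat_lit 3, nat_lit 7, nat_lit 1, nat_lit 2, nat_lit 4, nat_lit 8, nat_lit 5, nat_lit 4, nat_lit 3, nat_lit 2, nat_lit 3, nat_lit 0, nat_lit 1, nat_lit 2, nat_lit 3, nat_lit 4, nat_lit 5, nat_lit 0, nat_lit 4, nat_lit 1, nat_lit 3, nat_lit 2, nat_lit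 7, nat_lit 3],
  [nat_lit 2, nat_lit 1, nat_lit 4, nat_lit 5, nat_lit 4, nat_lit 3, nat_lit 2, nat_lit 5, nat_lit 7, nat_lit 3, nat_lit 4, nat_lit 7, nat_lit 6, nat_lit 5, nat_lit 3, nat_lit 4, nat_lit 5, nat_lit 6, nat_lit 5, nat_lit 3, nat_lit 7, nat_lit 2, nat_lit 0, nat_lit 1, nat_lit 3, nat_lit 4, nat_lit 7, nat_lit 8, nat_lit 1, nat_lit 0, nat_lit 3, nat_lit 2, nat_lit 7, nat_lit 3, nat_lit 0, nat_lit 3, nat_lit 7, nat_lit 8, nat_lit 1, nat_lit 5, nat_lit 4, nat_lit 2, nat_lit 3, nat_lit 7, nat_lit 4, nat_lit 3, nat_lit 0, nat_lit 3, nat_lit 2, nat_lit 5, nat_lit 4, nat_lit 3, nat_lit 1, nat_lit 0, nat_lit 3, nat_lit 2, nat_lit 4, nat_lit 6, nat_lit 3, nat_lit 0, nat_lit 1, nat_lit 5, nat_lit 4, nat_lit 7, nat_lit 3, nat_lit 2, nat_lit 1, nat_lit 3, nat_lit 4, nat_lit 5, nat_lit 3, nat_lit 4, nat_lit 5, nat_lit 4],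
  [nat_lit 6, nat_lit 2, nat_lit 4, nat_lit 3, nat_lit 4, nat_lit 7, nat_lit 8, nat_lit 3, nat_lit 5, nat_lit 6, nat_lit 7, nat_lit 2, nat_lit 3, nat_lit 2, nat_lit 8, nat_lit 3, nat_lit 5, nat_lit 4, nat_lit 7, nat_lit 5, nat_lit 6, nat_lit 3, nat_lit 7, nat_lit 4, nat_lit 5, nat_lit 3, nat_lit 2, nat_lit 3, nat_lit 7, nat_lit 6, nat_lit 8, nat_lit 3, nat_lit 4, nat_lit 5, nat_lit 1, nat_lit 3, nat_lit 6, nat_lit 5, nat_lit 2, nat_lit 7, nat_lit 2, nat_lit 3, nat_lit 0, nat_lit 1, nat_lit 8, nat_lit 7, nat_lit 4, nat_lit 3, nat_lit 8, nat_lit 2, nat_lit 0, nat_lit 7, nat_lit 1, nat_lit 3, nat_lit 2, nat_lit 4, nat_lit 3, nat_lit 2, nat_lit 3, nat_lit 7, nat_lit 3, nat_lit 5, nat_lit 4, nat_lit 6, nat_lit 5, nat_lit 3, nat_lit 7, nat_lit 3, nat_lit 8, nat_lit 1, nat_lit 3, nat_lit 2, nat_lit 1, nat_lit 7, nat_lit 3, nat_lit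 4, nat_lit 5, nat_lit 8, nat_lit 7, nat_lit 2, nat_lit 3, nat_lit 0, nat_lit 1, nat_lit 6, nat_lit 4, nat_lit 8, nat_lit 5, nat_lit 6, nat_lit 7, nat_lit 8, nat_lit 1, nat_lit 0, nat_lit 5, nat_lit 4, nat_lit 7, nat_lit 6, nat_lit 3]]
noncomputable def Ip3 : List (List ℕ) := [[nat_lit 0],
  [nat_lit 1],
  [nat_lit 2]]
noncomputable def Wp4 : List (List ℕ) := [[nat_lit 0, nat_lit 5, nat_lit 6, nat_lit 5, nat_lit 4, nat_lit 7, nat_lit 1, nat_lit 2, nat_lit 3, nat_lit 4, nat_lit 0, nat_lit 1, nat_lit 2, nat_lit 7, nat_lit 1, nat_lit 2, nat_lit 5, nat_lit 4, nat_lit 3, nat_lit 2, nat_lit 7, nat_lit 3, nat_lit 7, nat_lit 5, nat_lit 4, nat_lit 3, nat_lit 8, nat_lit 7, nat_lit 6, nat_lit 1, nat_lit 0, nat_lit 3, nat_lit 7, nat_lit 3, nat_lit 5, nat_lit 6, nat_lit 7, nat_lit 3, nat_lit 4, nat_lit 5, nat_lit 2, nat_lit 8, nat_lit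 3, nat_lit 4, nat_lit 7, nat_lit 8, nat_lit 1, nat_lit 0, nat_lit 3, nat_lit 2, nat_lit 7, nat_lit 3, nat_lit 0, nat_lit 1, nat_lit 3, nat_lit 4, nat_lit 8, nat_lit 5, nat_lit 2, nat_lit 3, nat_lit 0, nat_lit 2, nat_lit 4, nat_lit 3, nat_lit 4, nat_lit 7, nat_lit 8, nat_lit 3, nat_lit 5, nat_lit 6, nat_lit 7, nat_lit 2, nat_lit 3, nat_lit 0, nat_lit 1, nat_lit 2, nat_lit 4, nat_lit 5, nat_lit 6, nat_lit 3, nat_lit 2, nat_lit 1, nat_lit 7, nat_lit 8, nat_lit 3, nat_lit 7, nat_lit 5, nat_lit 2, nat_lit 1, nat_lit 0, nat_lit 4, nat_lit 2, nat_lit 3, nat_lit 7, nat_lit 8, nat_lit 7, nat_lit 5, nat_lit 2, nat_lit 5, nat_lit 4, nat_lit 7, nat_lit 8, nat_lit 3, nat_lit 4, nat_lit 1, nat_lit 0, nat_lit 2, nat_lit 7, nat_lit 3, nat_lit 7, nat_lit 8, nat_lit 5, nat_lit 4, nat_lit 7, nat_lit 3, nat_lit 2, nat_lit 8, nat_lit 4, nat_lit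 5, nat_lit 1, nat_lit 0, nat_lit 4, nat_lit 3, nat_lit 7, nat_lit 3, nat_lit 8, nat_lit 2, nat_lit 3, nat_lit 7, nat_lit 0, nat_lit 5, nat_lit 7, nat_lit 3, nat_lit 2, nat_lit 1, nat_lit 2, nat_lit 7],
  [nat_lit 3, nat_lit 8, nat_lit 2, nat_lit 5, nat_lit 3, nat_lit 2, nat_lit 7, nat_lit 6, nat_lit 5, nat_lit 3, nat_lit 8, nat_lit 7, nat_lit 4, nat_lit 3, nat_lit 4, nat_lit 2, nat_lit 3, nat_lit 2, nat_lit 1, nat_lit 7, nat_lit 3, nat_lit 4, nat_lit 5, nat_lit 4, nat_lit 3, nat_lit 7, nat_lit 6, nat_lit 2, nat_lit 3, nat_lit 7, nat_lit 5, nat_lit 4, nat_lit 3, nat_lit 0, nat_lit 1, nat_lit 2, nat_lit 3, nat_lit 4, nat_lit 5, nat_lit 1, nat_lit 0, nat_lit 7, nat_lit 3, nat_lit 2, nat_lit 6, nat_lit 7, nat_lit 3, nat_lit 4, nat_lit 5, nat_lit 4, nat_lit 3, nat_lit 7, nat_lit 1, nat_lit 2, nat_lit 6, nat_lit 1, nat_lit 7,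 nat_lit 8, nat_lit 3, nat_lit 4, nat_lit 7, nat_lit 3, nat_lit 2, nat_lit 7, nat_lit 0, nat_lit 1, nat_lit 5, nat_lit 6, nat_lit 2, nat_lit 3, nat_lit 2, nat_lit 1, nat_lit 4, nat_lit 8, nat_lit 3, nat_lit 4, nat_lit 6, nat_lit 3, nat_lit 1, nat_lit 0, nat_lit 5, nat_lit 4, nat_lit 3, nat_lit 1, nat_lit 7, nat_lit 3, nat_lit 2, nat_lit 4, nat_lit 3, nat_lit 5, nat_lit 7, nat_lit 6, nat_lit 0, nat_lit 8, nat_lit 0, nat_lit 5, nat_lit 4, nat_lit 3, nat_lit 4, nat_lit 5, nat_lit 6, nat_lit 1, nat_lit 2, nat_lit 4, nat_lit 3, nat_lit 4, nat_lit 7, nat_lit 8, nat_lit 3, nat_lit 5, nat_lit 6, nat_lit 7, nat_lit 2, nat_lit 3, nat_lit 0, nat_lit 1, nat_lit 2, nat_lit 3, nat_lit 1, nat_lit 0, nat_lit 2, nat_lit 3, nat_lit 4, nat_lit 5, nat_lit 3, nat_lit 2, nat_lit 4, nat_lit 3, nat_lit 4, nat_lit 7, nat_lit 3, nat_lit 1, nat_lit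 7, nat_lit 8, nat_lit 7, nat_lit 2, nat_lit 3, nat_lit 7, nat_lit 3, nat_lit 4, nat_lit 1, nat_lit 0, nat_lit 2],
  [nat_lit 0, nat_lit 5, nat_lit 4, nat_lit 0, nat_lit 6, nat_lit 5, nat_lit 4, nat_lit 6, nat_lit 7, nat_lit 3, nat_lit 2, nat_lit 0, nat_lit 5, nat_lit 4, nat_lit 1, nat_lit 3, nat_lit 7, nat_lit 8, nat_lit 6, nat_lit 3, nat_lit 4, nat_lit 7, nat_lit 3, nat_lit 5, nat_lit 6, nat_lit 1, nat_lit 0, nat_lit 5, nat_lit 4, nat_lit 3, nat_lit 2, nat_lit 5, nat_lit 7, nat_lit 3, nat_lit 4, nat_lit 5, nat_lit 6, nat_lit 7, nat_lit 1, nat_lit 7, nat_lit 8, nat_lit 2, nat_lit 4, nat_lit 3, nat_lit 4, nat_lit 7, nat_lit 8, nat_lit 3, nat_lit 5, nat_lit 6, nat_lit 7, nat_lit 2, nat_lit 3, nat_lit 7, nat_lit 3, nat_lit 1, nat_lit 0, nat_lit 7, nat_lit 8, nat_lit 7, nat_lit 8, nat_lit 4, nat_lit 3, nat_lit 0, nat_lit 7,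 nat_lit 6, nat_lit 2, nat_lit 3, nat_lit 2, nat_lit 4, nat_lit 5, nat_lit 6, nat_lit 5, nat_lit 7, nat_lit 1, nat_lit 3, nat_lit 2, nat_lit 5, nat_lit 6, nat_lit 1, nat_lit 3, nat_lit 7, nat_lit 4, nat_lit 2, nat_lit 3, nat_lit 7, nat_lit 4, nat_lit 2, nat_lit 1, nat_lit 2, nat_lit 3, nat_lit 6, nat_lit 5, nat_lit 4, nat_lit 2, nat_lit 1, nat_lit 3, nat_lit 5, nat_lit 6, nat_lit 7, nat_lit 2, nat_lit 3]]
noncomputable def Vp4 : List (List ℕ) := [[nat_lit 0, nat_lit 5, nat_lit 6, nat_lit 5, nat_lit 4, nat_lit 7, nat_lit 1, nat_lit 2, nat_lit 3, nat_lit 4, nat_lit 0, nat_lit 1, nat_lit 2, nat_lit 7, nat_lit 1, nat_lit 2, nat_lit 5, nat_lit 4, nat_lit 3, nat_lit 2, nat_lit 7, nat_lit 3, nat_lit 7, nat_lit 5, nat_lit 4, nat_lit 3, nat_lit 8, nat_lit 7, nat_lit 6, nat_lit 1, nat_lit 0, nat_lit 3, nat_lit 7, nat_lit 3, nat_lit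 5, nat_lit 6, nat_lit 7, nat_lit 3, nat_lit 4, nat_lit 5, nat_lit 2, nat_lit 8, nat_lit 3, nat_lit 4, nat_lit 7, nat_lit 8, nat_lit 1, nat_lit 0, nat_lit 3, nat_lit 2, nat_lit 7, nat_lit 3, nat_lit 0, nat_lit 1, nat_lit 3, nat_lit 4, nat_lit 8, nat_lit 5, nat_lit 2, nat_lit 3, nat_lit 0, nat_lit 2, nat_lit 4, nat_lit 3, nat_lit 4, nat_lit 7, nat_lit 8, nat_lit 3, nat_lit 5, nat_lit 6, nat_lit 7, nat_lit 2, nat_lit 3, nat_lit 0, nat_lit 1, nat_lit 2, nat_lit 4, nat_lit 5, nat_lit 6, nat_lit 3, nat_lit 2, nat_lit 1, nat_lit 7, nat_lit 8, nat_lit 3, nat_lit 7, nat_lit 5, nat_lit 2, nat_lit 1, nat_lit 0, nat_lit 4, nat_lit 2, nat_lit 3, nat_lit 7, nat_lit 8, nat_lit 7, nat_lit 5, nat_lit 2, nat_lit 5, nat_lit 4, nat_lit 7, nat_lit 8, nat_lit 3, nat_lit 4, nat_lit 1, nat_lit 0, nat_lit 2, nat_lit 7, nat_lit 3, nat_lit 7, nat_lit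 8, nat_lit 5, nat_lit 4, nat_lit 7, nat_lit 3, nat_lit 2, nat_lit 8, nat_lit 4, nat_lit 5, nat_lit 1, nat_lit 0, nat_lit 4, nat_lit 3, nat_lit 7, nat_lit 3, nat_lit 8, nat_lit 2, nat_lit 3, nat_lit 7, nat_lit 0, nat_lit 5, nat_lit 7, nat_lit 3, nat_lit 2, nat_lit 1, nat_lit 2, nat_lit 7],
  [nat_lit 3, nat_lit 8, nat_lit 2, nat_lit 5, nat_lit 3, nat_lit 2, nat_lit 7, nat_lit 6, nat_lit 5, nat_lit 3, nat_lit 8, nat_lit 7, nat_lit 4, nat_lit 3, nat_lit 4, nat_lit 2, nat_lit 3, nat_lit 2, nat_lit 1, nat_lit 7, nat_lit 3, nat_lit 4, nat_lit 5, nat_lit 4, nat_lit 3, nat_lit 7, nat_lit 6, nat_lit 2, nat_lit 3, nat_lit 7, nat_lit 5, nat_lit 4, nat_lit 3, nat_lit 0, nat_lit 1, nat_lit 2, nat_lit 3, nat_lit 4, nat_lit 5, nat_lit 1, nat_lit 0, nat_lit 7, nat_lit 3, nat_lit 2, nat_lit 6, nat_lit 7, nat_lit 3, nat_lit 4, nat_lit 5,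 nat_lit 4, nat_lit 3, nat_lit 7, nat_lit 1, nat_lit 2, nat_lit 6, nat_lit 1, nat_lit 7, nat_lit 8, nat_lit 3, nat_lit 4, nat_lit 7, nat_lit 3, nat_lit 2, nat_lit 7, nat_lit 0, nat_lit 1, nat_lit 5, nat_lit 6, nat_lit 2, nat_lit 3, nat_lit 2, nat_lit 1, nat_lit 4, nat_lit 8, nat_lit 3, nat_lit 4, nat_lit 6, nat_lit 3, nat_lit 1, nat_lit 0, nat_lit 5, nat_lit 4, nat_lit 3, nat_lit 1, nat_lit 7, nat_lit 3, nat_lit 2, nat_lit 4, nat_lit 3, nat_lit 5, nat_lit 7, nat_lit 6, nat_lit 0, nat_lit 8, nat_lit 0, nat_lit 5, nat_lit 4, nat_lit 3, nat_lit 4, nat_lit 5, nat_lit 6, nat_lit 1, nat_lit 2, nat_lit 4, nat_lit 3, nat_lit 4, nat_lit 7, nat_lit 8, nat_lit 3, nat_lit 5, nat_lit 6, nat_lit 7, nat_lit 2, nat_lit 3, nat_lit 0, nat_lit 1, nat_lit 2, nat_lit 3, nat_lit 1, nat_lit 0, nat_lit 2, nat_lit 3, nat_lit 4, nat_lit 5, nat_lit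 3, nat_lit 2, nat_lit 4, nat_lit 3, nat_lit 4, nat_lit 7, nat_lit 3, nat_lit 1, nat_lit 7, nat_lit 8, nat_lit 7, nat_lit 2, nat_lit 3, nat_lit 7, nat_lit 3, nat_lit 4, nat_lit 1, nat_lit 0, nat_lit 2],
  [nat_lit 0, nat_lit 5, nat_lit 4, nat_lit 0, nat_lit 6, nat_lit 5, nat_lit 4, nat_lit 6, nat_lit 7, nat_lit 3, nat_lit 2, nat_lit 0, nat_lit 5, nat_lit 4, nat_lit 1, nat_lit 3, nat_lit 7, nat_lit 8, nat_lit 6, nat_lit 3, nat_lit 4, nat_lit 7, nat_lit 3, nat_lit 5, nat_lit 6, nat_lit 1, nat_lit 0, nat_lit 5, nat_lit 4, nat_lit 3, nat_lit 2, nat_lit 5, nat_lit 7, nat_lit 3, nat_lit 4, nat_lit 5, nat_lit 6, nat_lit 7, nat_lit 1, nat_lit 7, nat_lit 8, nat_lit 2, nat_lit 4, nat_lit 3, nat_lit 4, nat_lit 7, nat_lit 8, nat_lit 3, nat_lit 5, nat_lit 6, nat_lit 7, nat_lit 2, nat_lit 3, nat_lit 7, nat_lit 3, nat_lit 1, nat_lit 0,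 nat_lit 7, nat_lit 8, nat_lit 7, nat_lit 8, nat_lit 4, nat_lit 3, nat_lit 0, nat_lit 7, nat_lit 6, nat_lit 2, nat_lit 3, nat_lit 2, nat_lit 4, nat_lit 5, nat_lit 6, nat_lit 5, nat_lit 7, nat_lit 1, nat_lit 3, nat_lit 2, nat_lit 5, nat_lit 6, nat_lit 1, nat_lit 3, nat_lit 7, nat_lit 4, nat_lit 2, nat_lit 3, nat_lit 7, nat_lit 4, nat_lit 2, nat_lit 1, nat_lit 2, nat_lit 3, nat_lit 6, nat_lit 5, nat_lit 4, nat_lit 2, nat_lit 1, nat_lit 3, nat_lit 5, nat_lit 6, nat_lit 7, nat_lit 2, nat_lit 3]]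
noncomputable def Ip4 : List (List ℕ) := [[nat_lit 0],
  [nat_lit 1],
  [nat_lit 2]]
noncomputable def Wp5 : List (List ℕ) := [[nat_lit 5, nat_lit 6, nat_lit 5, nat_lit 4, nat_lit 7, nat_lit 1, nat_lit 2, nat_lit 3, nat_lit 4, nat_lit 0, nat_lit 1, nat_lit 2, nat_lit 7, nat_lit 0, nat_lit 3, nat_lit 5, nat_lit 7, nat_lit 4, nat_lit 3, nat_lit 7, nat_lit 6, nat_lit 1, nat_lit 2, nat_lit 0, nat_lit 1, nat_lit 0, nat_lit 1, nat_lit 2, nat_lit 3, nat_lit 6, nat_lit 5, nat_lit 4, nat_lit 2, nat_lit 1, nat_lit 0, nat_lit 1, nat_lit 2, nat_lit 3, nat_lit 2, nat_lit 6, nat_lit 5, nat_lit 1, nat_lit 0, nat_lit 6, nat_lit 3, nat_lit 1, nat_lit 0, nat_lit 3, nat_lit 2, nat_lit 7, nat_lit 6, nat_lit 5, nat_lit 3, nat_lit 8, nat_lit 7, nat_lit 4, nat_lit 3, nat_lit 4, nat_lit 2, nat_lit 5, nat_lit 4, nat_lit 7, nat_lit 8, nat_lit 0,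 nat_lit 3, nat_lit 7, nat_lit 8, nat_lit 4, nat_lit 5, nat_lit 6, nat_lit 0, nat_lit 7, nat_lit 5, nat_lit 4, nat_lit 3, nat_lit 1, nat_lit 2, nat_lit 3, nat_lit 7, nat_lit 4, nat_lit 5, nat_lit 2, nat_lit 3, nat_lit 6, nat_lit 5, nat_lit 4, nat_lit 2, nat_lit 1, nat_lit 0, nat_lit 2, nat_lit 8, nat_lit 1, nat_lit 6, nat_lit 5, nat_lit 4, nat_lit 3, nat_lit 4, nat_lit 5, nat_lit 0, nat_lit 2, nat_lit 3, nat_lit 4, nat_lit 5, nat_lit 1, nat_lit 7, nat_lit 3, nat_lit 4, nat_lit 2, nat_lit 3, nat_lit 7, nat_lit 5, nat_lit 4, nat_lit 3, nat_lit 7, nat_lit 8, nat_lit 4, nat_lit 0, nat_lit 3, nat_lit 6, nat_lit 1, nat_lit 2, nat_lit 7, nat_lit 5, nat_lit 4, nat_lit 5],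
  [nat_lit 3, nat_lit 2, nat_lit 7, nat_lit 6, nat_lit 5, nat_lit 3, nat_lit 8, nat_lit 7, nat_lit 4, nat_lit 3, nat_lit 4, nat_lit 2, nat_lit 1, nat_lit 5, nat_lit 4, nat_lit 7, nat_lit 3, nat_lit 2, nat_lit 1, nat_lit 3, nat_lit 4, nat_lit 5, nat_lit 7, nat_lit 0, nat_lit 6, nat_lit 7, nat_lit 8, nat_lit 1, nat_lit 2, nat_lit 5, nat_lit 4, nat_lit 3, nat_lit 7, nat_lit 3, nat_lit 8, nat_lit 1, nat_lit 0, nat_lit 5, nat_lit 4, nat_lit 6, nat_lit 5, nat_lit 0, nat_lit 7, nat_lit 3, nat_lit 2, nat_lit 1, nat_lit 4, nat_lit 3, nat_lit 7, nat_lit 3, nat_lit 2, nat_lit 0, nat_lit 1, nat_lit 7, nat_lit 0, nat_lit 6, nat_lit 5, nat_lit 4, nat_lit 0, nat_lit 3, nat_lit 7, nat_lit 8, nat_lit 1, nat_lit 2, nat_lit 5, nat_lit 6, nat_lit 1, nat_lit 3, nat_lit 4, nat_lit 3, nat_lit 2, nat_lit 7, nat_lit 8, nat_lit 6, nat_lit 7, nat_lit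 1, nat_lit 0, nat_lit 3, nat_lit 2, nat_lit 1, nat_lit 0, nat_lit 4, nat_lit 3, nat_lit 2, nat_lit 1, nat_lit 0, nat_lit 1, nat_lit 5, nat_lit 6, nat_lit 2, nat_lit 3, nat_lit 2, nat_lit 1, nat_lit 0, nat_lit 1, nat_lit 5, nat_lit 4, nat_lit 3, nat_lit 2, nat_lit 1, nat_lit 0, nat_lit 3, nat_lit 4, nat_lit 5, nat_lit 7, nat_lit 2, nat_lit 1, nat_lit 0, nat_lit 4, nat_lit 3, nat_lit 2, nat_lit 1, nat_lit 4, nat_lit 3, nat_lit 7, nat_lit 1, nat_lit 5, nat_lit 6, nat_lit 5, nat_lit 4, nat_lit 3, nat_lit 2, nat_lit 5, nat_lit 4, nat_lit 6, nat_lit 7, nat_lit 5],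
  [nat_lit 8, nat_lit 2, nat_lit 8, nat_lit 3, nat_lit 2, nat_lit 8, nat_lit 3, nat_lit 5, nat_lit 4, nat_lit 7, nat_lit 5, nat_lit 6, nat_lit 3, nat_lit 7, nat_lit 4, nat_lit 5, nat_lit 3, nat_lit 2, nat_lit 3, nat_lit 7, nat_lit 6, nat_lit 8, nat_lit 4, nat_lit 3, nat_lit 7, nat_lit 6, nat_lit 8, nat_lit 7, nat_lit 5, nat_lit 7, nat_lit 2, nat_lit 3, nat_lit 7, nat_lit 4, nat_lit 3, nat_lit 1, nat_lit 2, nat_lit 5, nat_lit 6, nat_lit 7, nat_lit 3, nat_lit 8, nat_lit 7, nat_lit 8, nat_lit 5, nat_lit 4, nat_lit 3, nat_lit 0, nat_lit 1, nat_lit 5, nat_lit 4, nat_lit 7, nat_lit 3, nat_lit 0, nat_lit 6, nat_lit 5, nat_lit 1, nat_lit 7, nat_lit 8, nat_lit 3, nat_lit 2, nat_lit 1, nat_lit 0, nat_lit 1, nat_lit 3, nat_lit 7, nat_lit 4, nat_lit 5, nat_lit 6, nat_lit 0, nat_lit 3, nat_lit 4, nat_lit 5, nat_lit 3, nat_lit 0, nat_lit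 1, nat_lit 2, nat_lit 5, nat_lit 4, nat_lit 3, nat_lit 1, nat_lit 0, nat_lit 7, nat_lit 6, nat_lit 4, nat_lit 7, nat_lit 3, nat_lit 1, nat_lit 2, nat_lit 7, nat_lit 6, nat_lit 7, nat_lit 3, nat_lit 1, nat_lit 5, nat_lit 4, nat_lit 6]]
noncomputable def Vp5 : List (List ℕ) := [[nat_lit 5, nat_lit 6, nat_lit 5, nat_lit 4, nat_lit 7, nat_lit 1, nat_lit 2, nat_lit 3, nat_lit 4, nat_lit 0, nat_lit 1, nat_lit 2, nat_lit 7, nat_lit 0, nat_lit 3, nat_lit 5, nat_lit 7, nat_lit 4, nat_lit 3, nat_lit 7, nat_lit 6, nat_lit 1, nat_lit 2, nat_lit 0, nat_lit 1, nat_lit 0, nat_lit 1, nat_lit 2, nat_lit 3, nat_lit 6, nat_lit 5, nat_lit 4, nat_lit 2, nat_lit 1, nat_lit 0, nat_lit 1, nat_lit 2, nat_lit 3, nat_lit 2, nat_lit 6, nat_lit 5, nat_lit 1, nat_lit 0, nat_lit 6, nat_lit 3, nat_lit 1, nat_lit 0, nat_lit 3, nat_lit 2, nat_lit 7, nat_lit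 6, nat_lit 5, nat_lit 3, nat_lit 8, nat_lit 7, nat_lit 4, nat_lit 3, nat_lit 4, nat_lit 2, nat_lit 5, nat_lit 4, nat_lit 7, nat_lit 8, nat_lit 0, nat_lit 3, nat_lit 7, nat_lit 8, nat_lit 4, nat_lit 5, nat_lit 6, nat_lit 0, nat_lit 7, nat_lit 5, nat_lit 4, nat_lit 3, nat_lit 1, nat_lit 2, nat_lit 3, nat_lit 7, nat_lit 4, nat_lit 5, nat_lit 2, nat_lit 3, nat_lit 6, nat_lit 5, nat_lit 4, nat_lit 2, nat_lit 1, nat_lit 0, nat_lit 2, nat_lit 8, nat_lit 1, nat_lit 6, nat_lit 5, nat_lit 4, nat_lit 3, nat_lit 4, nat_lit 5, nat_lit 0, nat_lit 2, nat_lit 3, nat_lit 4, nat_lit 5, nat_lit 1, nat_lit 7, nat_lit 3, nat_lit 4, nat_lit 2, nat_lit 3, nat_lit 7, nat_lit 5, nat_lit 4, nat_lit 3, nat_lit 7, nat_lit 8, nat_lit 4, nat_lit 0, nat_lit 3, nat_lit 6, nat_lit 1, nat_lit 2, nat_lit 7, nat_lit 5, nat_lit 4, nat_lit 5],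
  [nat_lit 3, nat_lit 2, nat_lit 7, nat_lit 6, nat_lit 5, nat_lit 3, nat_lit 8, nat_lit 7, nat_lit 4, nat_lit 3, nat_lit 4, nat_lit 2, nat_lit 1, nat_lit 5, nat_lit 4, nat_lit 7, nat_lit 3, nat_lit 2, nat_lit 1, nat_lit 3, nat_lit 4, nat_lit 5, nat_lit 7, nat_lit 0, nat_lit 6, nat_lit 7, nat_lit 8, nat_lit 1, nat_lit 2, nat_lit 5, nat_lit 4, nat_lit 3, nat_lit 7, nat_lit 3, nat_lit 8, nat_lit 1, nat_lit 0, nat_lit 5, nat_lit 4, nat_lit 6, nat_lit 5, nat_lit 0, nat_lit 7, nat_lit 3, nat_lit 2, nat_lit 1, nat_lit 4, nat_lit 3, nat_lit 7, nat_lit 3, nat_lit 2, nat_lit 0, nat_lit 1, nat_lit 7, nat_lit 0, nat_lit 6, nat_lit 5, nat_lit 4, nat_lit 0, nat_lit 3, nat_lit 7, nat_lit 8, nat_lit 1, nat_lit 2, nat_lit 5, nat_lit 6, nat_lit 1, nat_lit 3, nat_lit 4, nat_lit 3, nat_lit 2, nat_lit 7, nat_lit 8, nat_lit 6, nat_lit 7, nat_lit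 1, nat_lit 0, nat_lit 3, nat_lit 2, nat_lit 1, nat_lit 0, nat_lit 4, nat_lit 3, nat_lit 2, nat_lit 1, nat_lit 0, nat_lit 1, nat_lit 5, nat_lit 6, nat_lit 2, nat_lit 3, nat_lit 2, nat_lit 1, nat_lit 0, nat_lit 1, nat_lit 5, nat_lit 4, nat_lit 3, nat_lit 2, nat_lit 1, nat_lit 0, nat_lit 3, nat_lit 4, nat_lit 5, nat_lit 7, nat_lit 2, nat_lit 1, nat_lit 0, nat_lit 4, nat_lit 3, nat_lit 2, nat_lit 1, nat_lit 4, nat_lit 3, nat_lit 7, nat_lit 1, nat_lit 5, nat_lit 6, nat_lit 5, nat_lit 4, nat_lit 3, nat_lit 2, nat_lit 5, nat_lit 4, nat_lit 6, nat_lit 7, nat_lit 5],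
  [nat_lit 8, nat_lit 2, nat_lit 8, nat_lit 3, nat_lit 2, nat_lit 8, nat_lit 3, nat_lit 5, nat_lit 4, nat_lit 7, nat_lit 5, nat_lit 6, nat_lit 3, nat_lit 7, nat_lit 4, nat_lit 5, nat_lit 3, nat_lit 2, nat_lit 3, nat_lit 7, nat_lit 6, nat_lit 8, nat_lit 4, nat_lit 3, nat_lit 7, nat_lit 6, nat_lit 8, nat_lit 7, nat_lit 5, nat_lit 7, nat_lit 2, nat_lit 3, nat_lit 7, nat_lit 4, nat_lit 3, nat_lit 1, nat_lit 2, nat_lit 5, nat_lit 6, nat_lit 7, nat_lit 3, nat_lit 8, nat_lit 7, nat_lit 8, nat_lit 5, nat_lit 4, nat_lit 3, nat_lit 0, nat_lit 1, nat_lit 5, nat_lit 4, nat_lit 7, nat_lit 3, nat_lit 0, nat_lit 6, nat_lit 5, nat_lit 1, nat_lit 7, nat_lit 8, nat_lit 3, nat_lit 2, nat_lit 1, nat_lit 0, nat_lit 1, nat_lit 3, nat_lit 7, nat_lit 4, nat_lit 5, nat_lit 6, nat_lit 0, nat_lit 3, nat_lit 4, nat_lit 5, nat_lit 3, nat_lit 0, nat_lit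 1, nat_lit 2, nat_lit 5, nat_lit 4, nat_lit 3, nat_lit 1, nat_lit 0, nat_lit 7, nat_lit 6, nat_lit 4, nat_lit 7, nat_lit 3, nat_lit 1, nat_lit 2, nat_lit 7, nat_lit 6, nat_lit 7, nat_lit 3, nat_lit 1, nat_lit 5, nat_lit 4, nat_lit 6]]
noncomputable def Ip5 : List (List ℕ) := [[nat_lit 0],
  [nat_lit 1],
  [nat_lit 2]]

end H15.YB.X1
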